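import Cfsg.Agent.H436.Names
import Cfsg.Agent.S2065
import Cfsg.Agent.S2067
import Cfsg.Agent.S2078
import Cfsg.Agent.S2601
import Cfsg.Agent.S2602
import Cfsg.Agent.H109.PD.PslA
import Cfsg.Agent.H799.L37.Spec
import Cfsg.Agent.H537.CopSC
import Cfsg.Agent.H981.SCON
import Cfsg.Agent.LieClassical.FieldTransfer

/-!
# S3938, the row `E_7` of the Weigel list: the small groups (helper344)

* `kill_171` : no element of order 171 in a group of automorphisms of `L_2(19)`, `L_3(7)`, `J_1`, `J_3`, `O'N`;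
* `kill_703` : no element of order 703 in `L_2(37)`.
-/

set_option autoImplicit false
set_option linter.unusedVariables false

namespace Cfsg.Agent.H344.Wei

open Cfsg Cfsg.Agent.OrdDiv Cfsg.Agent.H436

/-- the sixth powers of the automorphisms are inner -/
def Six (K : Type*) [Group K] : Prop := ∀ φ : MulAut K, ∃ s : K, φ ^ 6 = MulAut.conj s

theorem Six.congr {S K : Type*} [Group S] [Group K] (e : S ≃* K) (h : Six K) : Six S := by
  intro φ
  obtain ⟨g, hg⟩ := h ((e.symm.trans φ).trans e)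
  refine ⟨e.symm g, ?_⟩
  ext x
  have h1 := congrArg (fun ψ : MulAut K => e.symm (ψ (e x))) hg
  simpa [pow_succ] using h1

theorem six_of_card {K : Type*} [Group K] {n : ℕ} (h : Nat.card (Out K) = n) (hn : n ∣ 6) : Six K := by
  intro φ
  have h1 : (QuotientGroup.mk φ : Out K) ^ 6 = 1 := by
    have h2 : (QuotientGroup.mk φ : Out K) ^ Nat.card (Out K) = 1 := pow_card_eq_one'
    rw [h] at h2
    obtain ⟨k, hk⟩ := hn
    rw [hk, pow_mul, h2, one_pow]
  rw [← QuotientGroup.mk_pow, QuotientGroup.eq_one_iff] at h1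
  obtain ⟨s, hs⟩ := h1
  exact ⟨s, hs.symm⟩

theorem card_of_surj {G M : Type*} [Group G] [Group M] {φ : G →* M} (h : Function.Surjective φ) :
    Nat.card G = Nat.card M * Nat.card φ.ker := by
  rw [Subgroup.card_eq_card_quotient_mul_card_subgroup φ.ker,
    Nat.card_congr (QuotientGroup.quotientKerEquivOfSurjective φ h).toEquiv]

theorem six_psl2 {F : Type*} [Field F] [Fintype F] (hF : Fintype.card F = 19) :
    Six (Matrix.ProjectiveSpecialLinearGroup (Fin 2) F) := by
  have : Fact (Nat.Prime 19) := ⟨by norm_num⟩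
  obtain ⟨φ, h1, -, h2⟩ := S2602.result (F := F) (p := 19) (f := 1) le_rfl (by rw [hF, pow_one]) (by norm_num)
  refine six_of_card (n := 2) ?_ (by norm_num)
  rw [card_of_surj h1, h2]
  have h3 : Nat.card (Multiplicative (ZMod 1)) = 1 := by
    rw [Nat.card_congr Multiplicative.toAdd]; exact Nat.card_zmod 1
  rw [h3]
  norm_num

theorem six_psl3 {F : Type*} [Field F] [Fintype F] (hF : Fintype.card F = 7) :
    Six (Matrix.ProjectiveSpecialLinearGroup (Fin 3) F) := by
  have : Fact (Nat.Prime 7) := ⟨by norm_num⟩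
  obtain ⟨φ, h1, -, h2⟩ := S2601.result (F := F) (p := 7) (f := 1) (n := 3) le_rfl (by rw [hF, pow_one]) le_rfl
  refine six_of_card (n := 6) ?_ (by norm_num)
  rw [card_of_surj h1, h2]
  have h3 : Nat.card (Multiplicative (ZMod 1 × ZMod 2)) = 2 := by
    rw [Nat.card_congr Multiplicative.toAdd, Nat.card_prod, Nat.card_zmod, Nat.card_zmod]
  rw [h3]
  norm_num

/-- no element of order 57 -/
def No57 (K : Type*) [Group K] : Prop := ∀ s : K, orderOf s ≠ 57

theorem No57.congr {S K : Type*} [Group S] [Group K] (e : S ≃* K) (h : No57 K) : No57 S := fun s hs =>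
  h (e s) (by rw [MulEquiv.orderOf_eq e s, hs])

theorem no57_of_sc {K : Type*} [Group K] (h : Cfsg.Agent.H537.Cop.SC 19 K) : No57 K := by
  intro s hs
  have h1 : orderOf (s ^ 3) = 19 := by
    rw [orderOf_pow' s (by norm_num), hs]
    norm_num
  have h2 := orderOf_dvd_natCard (⟨s, Subgroup.mem_centralizer_singleton_iff.2
    (((Commute.refl s).pow_right 3).eq)⟩ : Subgroup.centralizer ({s ^ 3} : Set K))
  rw [Subgroup.orderOf_mk, hs, h _ h1] at h2
  exact absurd h2 (by norm_num)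

theorem no_mul_char {F : Type*} [Field F] [Fintype F] {p : ℕ} (hp : p.Prime) (hF : Fintype.card F = p) {m : ℕ}
    (hm : 1 < m) (s : Matrix.ProjectiveSpecialLinearGroup (Fin 2) F) : orderOf s ≠ m * p := by
  intro hs
  have hpf : Fact p.Prime := ⟨hp⟩
  have hch : CharP F p := by
    obtain ⟨q, hq⟩ := CharP.exists F
    obtain ⟨n, hqp, hn⟩ := FiniteField.card F q
    have h1 : q = p := by
      have h2 : q ∣ p := by rw [← hF, hn]; exact dvd_pow_self q n.ne_zero
      exact (Nat.prime_dvd_prime_iff_eq hqp hp).1 h2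
    exact h1 ▸ hq
  have h1 : orderOf (s ^ m) = p := by
    rw [orderOf_pow' s (by omega), hs, Nat.gcd_eq_right (dvd_mul_right m p), Nat.mul_div_cancel_left p (by omega)]
  have h2 : (s ^ m) ^ p = 1 := by rw [← h1]; exact pow_orderOf_eq_one _
  have h3 : s ^ m ≠ 1 := by
    intro h
    rw [h, orderOf_one] at h1
    exact hp.one_lt.ne h1
  have h4 := Cfsg.Agent.H109.PD.pow_char_of_comm h2 h3 (((Commute.refl s).pow_right m).eq)
  have h5 := orderOf_dvd_of_pow_eq_one h4
  rw [hs] at h5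
  have h6 := Nat.le_of_dvd hp.pos h5
  nlinarith [hp.pos]

theorem no57_psl3 {F : Type*} [Field F] [Fintype F] (hF : Fintype.card F = 7) :
    No57 (Matrix.ProjectiveSpecialLinearGroup (Fin 3) F) := by
  have : Fact (Nat.Prime 7) := ⟨by norm_num⟩
  have e : F ≃+* ZMod 7 := FiniteField.ringEquivOfCardEq (by rw [hF, ZMod.card])
  refine No57.congr (Cfsg.Agent.LieClassical.FieldTransfer.pslCongr e) fun s hs => ?_
  have h := Cfsg.Agent.H799.L37.sp s
  rw [hs] at h
  norm_num at h

theorem data {S : Type} [Group S] {g : Grp} (hg : g = .psl 2 19 ∨ g = .psl 3 7 ∨ g = .j1 ∨ g = .j3 ∨ g = .on)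
    (hS : Real g S) : Six S ∧ No57 S := by
  rcases hg with rfl | rfl | rfl | rfl | rfl
  · obtain ⟨F, hF1, hF2, hF, ⟨e⟩⟩ := hS
    exact ⟨Six.congr e (six_psl2 hF), No57.congr e fun s => no_mul_char (by norm_num) hF (m := 3) (by norm_num) s⟩
  · obtain ⟨F, hF1, hF2, hF, ⟨e⟩⟩ := hS
    exact ⟨Six.congr e (six_psl3 hF), No57.congr e (no57_psl3 hF)⟩
  · refine ⟨?_, no57_of_sc (Cfsg.Agent.H537.Cop.j1_19 hS)⟩
    obtain ⟨e⟩ := hS
    exact Six.congr e (six_of_card S2065.result (by norm_num))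
  · refine ⟨?_, no57_of_sc (Cfsg.Agent.H537.Cop.j3_19 hS)⟩
    obtain ⟨F, hF1, hF2, ω, hF, hω, ⟨e⟩⟩ := hS
    exact Six.congr e (six_of_card (S2067.result hF ω hω) (by norm_num))
  · obtain ⟨e⟩ := hS
    exact ⟨Six.congr e (six_of_card S2078.result (by norm_num)), No57.congr e (no57_of_sc fun x hx =>
      Cfsg.Agent.H981.SCON.card_cent_nineteen hx)⟩

/-- (N3) the small groups, `q = 2` -/
theorem kill_171 {A : Type} [Group A] [Finite A] (S : Subgroup A) [S.Normal]
    (hC : Subgroup.centralizer (S : Set A) = ⊥) {g : Grp} (hg : g = .psl 2 19 ∨ g = .psl 3 7 ∨ g = .j1 ∨ g = .j3 ∨ g = .on)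
    (hS : IsNamed g ↥S) {x : A} (hx : orderOf x = 171) (hxS : x ^ 9 ∈ S) : False := by
  obtain ⟨h1, h2⟩ := data hg hS.real
  obtain ⟨s, hs⟩ := h1 (MulAut.conjNormal x)
  have h3 : (s : A)⁻¹ * x ^ 6 = 1 := by
    rw [← Subgroup.mem_bot, ← hC, Subgroup.mem_centralizer_iff]
    intro y hy
    have h4 := congrArg (fun ψ : MulAut ↥S => ((ψ ⟨y, hy⟩ : ↥S) : A)) hs
    simp only [← map_pow, MulAut.conjNormal_apply, MulAut.conj_apply, Subgroup.coe_mul, Subgroup.coe_inv] at h4
    have h5 : x ^ 6 * y = (s : A) * y * (s : A)⁻¹ * x ^ 6 := by rw [← h4]; group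
    rw [mul_assoc, h5]
    group
  have h6 : x ^ 6 = (s : A) := by
    have := congrArg (fun z => (s : A) * z) h3
    simpa using this
  refine h2 s ?_
  rw [← Subgroup.orderOf_coe, ← h6, orderOf_pow' x (by norm_num), hx]
  norm_num

/-- (N4) -/
theorem kill_703 {S : Type} [Group S] [Finite S] (hS : IsNamed (.psl 2 37) S) {y : S} (hy : orderOf y = 703) : False := by
  obtain ⟨F, hF1, hF2, hF, ⟨e⟩⟩ := hS.real
  refine no_mul_char (by norm_num) hF (m := 19) (by norm_num) (e y) ?_
  rw [MulEquiv.orderOf_eq e y, hy]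

end Cfsg.Agent.H344.Wei
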